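import Groth.Agent.Lib.GITQuot.Orbit
import Groth.Agent.Lib.PtsDetect19.Basic
import Groth.Prelude.Def_GLinSh
import Mathlib.AlgebraicGeometry.Morphisms.QuasiFinite
import Mathlib.Topology.JacobsonSpace

/-!
# Lifting geometric points, finiteness detected on sections
-/

set_option autoImplicit false
set_option linter.style.haveILetI false
set_option backward.isDefEq.respectTransparency.types false
universe u

open CategoryTheory CategoryTheory.Limits MonoidalCategory CartesianMonoidalCategory AlgebraicGeometry

namespace Groth.Agent.NRGIT21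

/-- A closed point of a scheme locally of finite type over an algebraically closed field is the
image of a section. -/
theorem exists_section {Ω : Type u} [Field Ω] [IsAlgClosed Ω] {P : Scheme.{u}}
    (p : P ⟶ Spec (CommRingCat.of Ω)) [LocallyOfFiniteType p] {y : P} (hy : IsClosed ({y} : Set P)) :
    ∃ σ : Spec (CommRingCat.of Ω) ⟶ P, σ ≫ p = 𝟙 _ ∧ ∀ t, σ t = y := by
  haveI : LocallyOfFiniteType (Over.mk p).hom := ‹LocallyOfFiniteType p›
  obtain ⟨w, hw⟩ := PtsDetect19.exists_point (k := Ω) (W := Over.mk p) Ω y hy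
  exact ⟨w.left, (Over.w w).trans (Spec.map_id _), hw⟩

theorem exists_section_of_surjective {Ω : Type u} [Field Ω] [IsAlgClosed Ω] {P : Scheme.{u}}
    (p : P ⟶ Spec (CommRingCat.of Ω)) [LocallyOfFiniteType p] [Surjective p] :
    ∃ σ : Spec (CommRingCat.of Ω) ⟶ P, σ ≫ p = 𝟙 _ := by
  haveI : JacobsonSpace P := LocallyOfFiniteType.jacobsonSpace p
  obtain ⟨y₀, -⟩ := p.surjective (IsLocalRing.closedPoint Ω)
  obtain ⟨y, -, hy⟩ := nonempty_inter_closedPoints (X := P) (Z := Set.univ) ⟨y₀, trivial⟩
    isClosed_univ.isLocallyClosed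
  obtain ⟨σ, hσ, -⟩ := exists_section p hy
  exact ⟨σ, hσ⟩

variable {S : Scheme.{u}}

/-- Geometric points lift along surjective morphisms locally of finite type. -/
theorem exists_lift_point {Ω : Type u} [Field Ω] [IsAlgClosed Ω] {T A B : Over S}
    (e : T.left ≅ Spec (CommRingCat.of Ω)) (h : A.left ⟶ B.left) [LocallyOfFiniteType h]
    [Surjective h] (hh : h ≫ B.hom = A.hom) (s : T ⟶ B) :
    ∃ t : T ⟶ A, t.left ≫ h = s.left := by
  haveI : Surjective (pullback.snd h s.left) := MorphismProperty.pullback_snd _ _ ‹_›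
  haveI : Surjective (pullback.snd h s.left ≫ e.hom) := inferInstance
  obtain ⟨σ, hσ⟩ := exists_section_of_surjective (pullback.snd h s.left ≫ e.hom)
  have h2 : e.hom ≫ σ ≫ pullback.snd h s.left = 𝟙 _ := by
    rw [← cancel_mono e.hom, Category.assoc, Category.assoc, hσ, Category.comp_id, Category.id_comp]
  refine ⟨Over.homMk (e.hom ≫ σ ≫ pullback.fst h s.left) ?_, ?_⟩
  · rw [← hh, Category.assoc, Category.assoc, pullback.condition_assoc, Over.w s,
      ← Category.assoc, ← Category.assoc, Category.assoc e.hom, h2, Category.id_comp]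
  · show (e.hom ≫ σ ≫ pullback.fst h s.left) ≫ h = s.left
    rw [Category.assoc, Category.assoc, pullback.condition, reassoc_of% h2]

/-- Over an algebraically closed field, a quasi-compact scheme locally of finite type is finite as
soon as it has finitely many sections, and conversely. -/
theorem isFinite_iff_finite_sections {Ω : Type u} [Field Ω] [IsAlgClosed Ω] {P : Scheme.{u}}
    (p : P ⟶ Spec (CommRingCat.of Ω)) [LocallyOfFiniteType p] [QuasiCompact p] :
    IsFinite p ↔ Finite {σ : Spec (CommRingCat.of Ω) ⟶ P // σ ≫ p = 𝟙 _} := by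
  haveI : JacobsonSpace P := LocallyOfFiniteType.jacobsonSpace p
  let pt0 : Spec (CommRingCat.of Ω) := IsLocalRing.closedPoint Ω
  constructor
  · intro hf
    haveI : Finite P := by
      rw [← Set.finite_univ_iff]
      have h := p.finite_preimage_singleton pt0
      rwa [show p ⁻¹' {pt0} = (Set.univ : Set P) from
        Set.eq_univ_of_forall fun x => Subsingleton.elim (α := Spec (CommRingCat.of Ω)) _ _] at h
    refine Finite.of_injective (fun σ => σ.1 pt0) ?_
    rintro ⟨σ, hσ⟩ ⟨τ, hτ⟩ (he : σ pt0 = τ pt0)
    haveI : IsClosedImmersion τ := GrpdB.isClosedImmersion_of_section p τ hτ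
    obtain ⟨g, hg⟩ := RedSepLib.exists_lift_of_range_subset σ τ (by
      rintro _ ⟨z, rfl⟩
      refine ⟨pt0, ?_⟩
      rw [← he]
      exact congrArg σ (Subsingleton.elim (α := Spec (CommRingCat.of Ω)) _ _))
    have h1 : g = 𝟙 _ := by
      have := congrArg (· ≫ p) hg
      simpa [hσ, hτ] using this
    exact Subtype.ext (show σ = τ by rw [← hg, h1, Category.id_comp])
  · intro hfin
    have hcl : (closedPoints P).Finite := by
      have hsub : closedPoints P ⊆ Set.range
          (fun σ : {σ : Spec (CommRingCat.of Ω) ⟶ P // σ ≫ p = 𝟙 _} => σ.1 pt0) := fun y hy => by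
        obtain ⟨σ, hσ, hσy⟩ := exists_section p hy
        exact ⟨⟨σ, hσ⟩, hσy _⟩
      exact (Set.finite_range _).subset hsub
    haveI : DiscreteTopology P := JacobsonSpace.discreteTopology hcl
    haveI : LocallyQuasiFinite p :=
      locallyQuasiFinite_iff_isDiscrete_preimage_singleton.2 fun x => ⟨inferInstance⟩
    exact IsFinite.of_locallyQuasiFinite p

end Groth.Agent.NRGIT21
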