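import Groth.Agent.Lib.NRGIT21.Orbit
import Groth.Prelude.Def_AlgGrp

/-!
# Finiteness of stabilisers under a quotient by a normal subgroup
-/

set_option autoImplicit false
set_option linter.style.haveILetI false
set_option backward.isDefEq.respectTransparency.types false
universe u

open CategoryTheory CategoryTheory.Limits MonoidalCategory CartesianMonoidalCategory MonObj AlgebraicGeometry

namespace Groth.Agent.NRGIT21

variable {S : Scheme.{u}} {H N Q X Y : Over S} [GrpObj H] [GrpObj N] [GrpObj Q]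

theorem locallyOfFiniteType_stabTo (a : AlgGrp.Action H X) [LocallyOfFiniteType H.hom] {T : Over S}
    (f : T ⟶ X) : LocallyOfFiniteType (GLinSh.stabTo a f) := by
  haveI : LocallyOfFiniteType (snd H T).left := by rw [Over.snd_left]; infer_instance
  haveI : LocallyOfFiniteType ((GIT.psi a f).left ≫ (snd X T).left) := by
    rw [← Over.comp_left, GIT.psi, lift_snd]; infer_instance
  haveI := locallyOfFiniteType_of_comp (GIT.psi a f).left (snd X T).left
  exact MorphismProperty.pullback_snd _ _ inferInstance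

theorem quasiCompact_stabTo (a : AlgGrp.Action H X) [QuasiCompact H.hom] [IsSeparated X.hom]
    {T : Over S} (f : T ⟶ X) : QuasiCompact (GLinSh.stabTo a f) := by
  haveI : QuasiCompact (snd H T).left := by rw [Over.snd_left]; infer_instance
  haveI : IsSeparated (snd X T).left := by rw [Over.snd_left]; infer_instance
  haveI : QuasiCompact ((GIT.psi a f).left ≫ (snd X T).left) := by
    rw [← Over.comp_left, GIT.psi, lift_snd]; infer_instance
  haveI := QuasiCompact.of_comp (GIT.psi a f).left (snd X T).left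
  exact MorphismProperty.pullback_snd _ _ inferInstance

/-- The stabilising points. -/
abbrev StabPt (a : AlgGrp.Action H X) {T : Over S} (f : T ⟶ X) : Type u :=
  {g : T ⟶ H // lift g f ≫ a.act = f}

variable {Ω : Type u} [Field Ω] {T : Over S}

theorem finite_sections_iff (a : AlgGrp.Action H X) (e : T.left ≅ Spec (CommRingCat.of Ω))
    (f : T ⟶ X) :
    Finite {σ : Spec (CommRingCat.of Ω) ⟶ GLinSh.stab a f // σ ≫ GLinSh.stabTo a f ≫ e.hom = 𝟙 _} ↔
      Finite (StabPt a f) := by
  let Sec := {σ : Spec (CommRingCat.of Ω) ⟶ pullback (GIT.psi a f).left (lift f (𝟙 T)).left //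
    σ ≫ pullback.snd (GIT.psi a f).left (lift f (𝟙 T)).left ≫ e.hom = 𝟙 _}
  have hs : ∀ σ : Sec, e.hom ≫ σ.1 ≫ pullback.snd (GIT.psi a f).left (lift f (𝟙 T)).left = 𝟙 _ := fun σ => by
    rw [← cancel_mono e.hom, Category.assoc, Category.assoc, σ.2, Category.comp_id, Category.id_comp]
  have hcond : ∀ σ : Sec, (e.hom ≫ σ.1 ≫ pullback.fst (GIT.psi a f).left (lift f (𝟙 T)).left) ≫
      (GIT.psi a f).left = (lift f (𝟙 T)).left := fun σ => by
    have := reassoc_of% (hs σ)
    rw [Category.assoc, Category.assoc, pullback.condition]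
    exact this _
  let z : Sec → (T ⟶ H ⊗ T) := fun σ =>
    Over.homMk (e.hom ≫ σ.1 ≫ pullback.fst (GIT.psi a f).left (lift f (𝟙 T)).left) (by
      rw [← Over.w (GIT.psi a f), ← Category.assoc, hcond σ, Over.w (lift f (𝟙 T))])
  have hz : ∀ σ : Sec, z σ ≫ GIT.psi a f = lift f (𝟙 T) := fun σ =>
    Over.OverMorphism.ext (hcond σ)
  have hz2 : ∀ σ : Sec, z σ ≫ snd H T = 𝟙 T := fun σ => by
    have := congrArg (· ≫ snd X T) (hz σ)
    simpa [GIT.psi] using this
  have hzl : ∀ σ : Sec, z σ = lift (z σ ≫ fst H T) (𝟙 T) := fun σ => by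
    rw [← hz2 σ, lift_comp_fst_snd]
  let φ : Sec → StabPt a f := fun σ => ⟨z σ ≫ fst H T, by
    have := congrArg (· ≫ fst X T) (hz σ)
    simp only [comp_psi, lift_fst, reassoc_of% (hz2 σ)] at this
    exact this⟩
  have hl : ∀ g : StabPt a f, lift g.1 (𝟙 T) ≫ GIT.psi a f = lift f (𝟙 T) := fun g => by
    rw [comp_psi, lift_fst, lift_snd, lift_snd_assoc, Category.id_comp, g.2]
  let ψ : StabPt a f → Sec := fun g =>
    ⟨e.inv ≫ pullback.lift (lift g.1 (𝟙 T)).left (𝟙 T.left)
      ((congrArg CommaMorphism.left (hl g)).trans (Category.id_comp _).symm), by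
      show (_ ≫ _) ≫ pullback.snd _ _ ≫ e.hom = _
      rw [Category.assoc, pullback.lift_snd_assoc, Category.id_comp, e.inv_hom_id]⟩
  have eqv : Sec ≃ StabPt a f :=
    { toFun := φ
      invFun := ψ
      left_inv := fun σ => Subtype.ext (by
        show e.inv ≫ pullback.lift _ _ _ = σ.1
        rw [Iso.inv_comp_eq]
        refine pullback.hom_ext ?_ ?_
        · rw [pullback.lift_fst, Category.assoc]
          show (lift (z σ ≫ fst H T) (𝟙 T)).left = _
          rw [← hzl σ]
          rfl
        · rw [pullback.lift_snd, Category.assoc]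
          exact (hs σ).symm)
      right_inv := fun g => Subtype.ext (by
        have : z (ψ g) = lift g.1 (𝟙 T) := Over.OverMorphism.ext (by
          show e.hom ≫ (e.inv ≫ pullback.lift _ _ _) ≫ pullback.fst _ _ = _
          rw [Category.assoc, e.hom_inv_id_assoc, pullback.lift_fst])
        show z (ψ g) ≫ fst H T = g.1
        rw [this, lift_fst]) }
  exact eqv.finite_iff

variable [IsAlgClosed Ω]

theorem isFinite_stabTo_iff (a : AlgGrp.Action H X) [LocallyOfFiniteType H.hom] [QuasiCompact H.hom]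
    [IsSeparated X.hom] (e : T.left ≅ Spec (CommRingCat.of Ω)) (f : T ⟶ X) :
    IsFinite (GLinSh.stabTo a f) ↔ Finite (StabPt a f) := by
  haveI := locallyOfFiniteType_stabTo a f
  haveI := quasiCompact_stabTo a f
  rw [← finite_sections_iff a e f, ← isFinite_iff_finite_sections,
    MorphismProperty.cancel_right_of_respectsIso @IsFinite]

variable {a : AlgGrp.Action H X} {aN : AlgGrp.Action N X} {aQ : AlgGrp.Action Q Y} {π : X ⟶ Y}
  {i : N ⟶ H} {q : H ⟶ Q} [IsMonHom i] [IsMonHom q]

/-- Given finite stabilisers in the normal subgroup, a point has finite stabiliser iff its image in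
the quotient does. -/
theorem finite_stabPt_iff [LocallyOfFiniteType H.hom] [LocallyOfFiniteType N.hom]
    [LocallyOfFiniteType X.hom] [Surjective q.left] (hker : AlgGrp.IsKernel i q)
    (haN : aN.act = (i ▷ X) ≫ a.act) (hπ : GIT.IsGeomQuot aN π)
    (hequiv : (q ⊗ₘ π) ≫ aQ.act = a.act ≫ π) (e : T.left ≅ Spec (CommRingCat.of Ω)) (x : T ⟶ X)
    [Finite (StabPt aN x)] : Finite (StabPt aQ (x ≫ π)) ↔ Finite (StabPt a x) := by
  have hpush : ∀ g : T ⟶ H, (lift g x ≫ a.act) ≫ π = lift (g ≫ q) (x ≫ π) ≫ aQ.act := fun g => by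
    rw [Category.assoc, ← hequiv, ← Category.assoc, lift_map]
  let φ : StabPt a x → StabPt aQ (x ≫ π) := fun g => ⟨g.1 ≫ q, by rw [← hpush, g.2]⟩
  have hiq : i ≫ q = 1 := by rw [hker.w, Hom.one_def]
  constructor
  · intro _
    haveI : ∀ s, Finite {g : StabPt a x // φ g = s} := fun s => by
      by_cases hne : Nonempty {g : StabPt a x // φ g = s}
      · obtain ⟨g₀⟩ := hne
        have hn : ∀ g : {g : StabPt a x // φ g = s}, ∃ n : StabPt aN x, n.1 ≫ i = g₀.1.1⁻¹ * g.1.1 := by
          intro g
          have hq : (g₀.1.1⁻¹ * g.1.1) ≫ q = toUnit T ≫ η[Q] := by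
            have : g.1.1 ≫ q = g₀.1.1 ≫ q := congrArg Subtype.val (g.2.trans g₀.2.symm)
            rw [MonObj.mul_comp, GrpObj.inv_comp, this, inv_mul_cancel, Hom.one_def]
          refine ⟨⟨hker.lift _ _ hq, ?_⟩, hker.lift_fst _ _ hq⟩
          rw [act_of_comp a aN i haN, hker.lift_fst, AlgGrpBasic19.act_mul, g.1.2]
          have h0 := congrArg (fun m => lift g₀.1.1⁻¹ m ≫ a.act) g₀.1.2
          exact h0.symm.trans (by
            rw [← AlgGrpBasic19.act_mul, inv_mul_cancel, AlgGrpBasic19.act_one])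
        choose n hn using hn
        refine Finite.of_injective n fun g g' he => ?_
        have := (hn g).symm.trans ((congrArg (fun m : StabPt aN x => m.1 ≫ i) he).trans (hn g'))
        exact Subtype.ext (Subtype.ext (mul_left_cancel this))
      · exact @Finite.of_fintype _ (@Fintype.ofIsEmpty _ ⟨fun g => hne ⟨g⟩⟩)
    exact Finite.of_equiv _ (Equiv.sigmaFiberEquiv φ)
  · intro _
    refine Finite.of_surjective φ fun s => ?_
    haveI := locallyOfFiniteType_left q
    obtain ⟨g, hg⟩ := exists_lift_point e q.left (Over.w q) s.1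
    have hg' : g ≫ q = s.1 := Over.OverMorphism.ext hg
    have he : x ≫ π = (lift g x ≫ a.act) ≫ π := by rw [hpush, hg', s.2]
    obtain ⟨n, hn⟩ := exists_orbit_point hπ e he
    refine ⟨⟨(n ≫ i) * g, ?_⟩, Subtype.ext ?_⟩
    · rw [AlgGrpBasic19.act_mul, ← act_of_comp a aN i haN, hn]
    · show ((n ≫ i) * g) ≫ q = s.1
      rw [MonObj.mul_comp, Category.assoc, hiq, MonObj.comp_one, _root_.one_mul, hg']

end Groth.Agent.NRGIT21
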