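import Groth.Agent.Lib.NRGIT21.Lift
import Groth.Agent.Lib.AlgGrpBasic19.Basic

/-!
# Orbits and stabilisers under a quotient by a normal subgroup
-/

set_option autoImplicit false
set_option linter.style.haveILetI false
set_option backward.isDefEq.respectTransparency.types false
universe u

open CategoryTheory CategoryTheory.Limits MonoidalCategory CartesianMonoidalCategory MonObj AlgebraicGeometry
open Topology

namespace Groth.Agent.NRGIT21

variable {S : Scheme.{u}} {H N Q X Y : Over S} [GrpObj H] [GrpObj N] [GrpObj Q]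

theorem comp_psi {W T : Over S} (a : AlgGrp.Action H X) (f : T ⟶ X) (z : W ⟶ H ⊗ T) :
    z ≫ GIT.psi a f = lift (lift (z ≫ fst H T) (z ≫ snd H T ≫ f) ≫ a.act) (z ≫ snd H T) := by
  have : z ≫ (H ◁ f) = lift (z ≫ fst H T) (z ≫ snd H T ≫ f) := by ext1 <;> simp
  rw [GIT.psi, comp_lift, ← Category.assoc, this]

theorem act_of_comp (a : AlgGrp.Action H X) (aN : AlgGrp.Action N X) (i : N ⟶ H)
    (haN : aN.act = (i ▷ X) ≫ a.act) {W : Over S} (n : W ⟶ N) (x : W ⟶ X) :
    lift n x ≫ aN.act = lift (n ≫ i) x ≫ a.act := by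
  rw [haN, ← Category.assoc, lift_whiskerRight]

theorem pullback_hom {A B : Over S} (g : A ⟶ B) [IsSeparated B.hom] [QuasiCompact A.hom] :
    QuasiCompact g.left := by
  haveI : QuasiCompact (g.left ≫ B.hom) := by rw [Over.w g]; infer_instance
  exact QuasiCompact.of_comp g.left B.hom

theorem locallyOfFiniteType_left {A B : Over S} (g : A ⟶ B) [LocallyOfFiniteType A.hom] :
    LocallyOfFiniteType g.left := by
  haveI : LocallyOfFiniteType (g.left ≫ B.hom) := by rw [Over.w g]; infer_instance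
  exact locallyOfFiniteType_of_comp g.left B.hom

theorem locallyOfFiniteType_psiY [LocallyOfFiniteType N.hom] [LocallyOfFiniteType X.hom]
    (aN : AlgGrp.Action N X) (π : X ⟶ Y) (hinv : GIT.IsInvariant aN π) :
    LocallyOfFiniteType (GIT.PsiY aN π hinv) := by
  haveI : LocallyOfFiniteType (N ⊗ X).hom :=
    inferInstanceAs (LocallyOfFiniteType (pullback.fst N.hom X.hom ≫ N.hom))
  haveI : LocallyOfFiniteType (GIT.PsiY aN π hinv ≫ pullback.fst π.left π.left ≫ X.hom) := by
    rw [GIT.PsiY, pullback.lift_fst_assoc, Over.w aN.act]; infer_instance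
  exact locallyOfFiniteType_of_comp (GIT.PsiY aN π hinv) (pullback.fst π.left π.left ≫ X.hom)

/-- Two geometric points with the same image in a geometric quotient differ by a geometric point of
the group. -/
theorem exists_orbit_point [LocallyOfFiniteType N.hom] [LocallyOfFiniteType X.hom]
    {aN : AlgGrp.Action N X} {π : X ⟶ Y} (hπ : GIT.IsGeomQuot aN π) {Ω : Type u} [Field Ω]
    [IsAlgClosed Ω] {T : Over S} (e : T.left ≅ Spec (CommRingCat.of Ω)) {x x' : T ⟶ X}
    (h : x ≫ π = x' ≫ π) : ∃ n : T ⟶ N, lift n x' ≫ aN.act = x := by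
  haveI := locallyOfFiniteType_psiY aN π hπ.inv
  haveI : Surjective (GIT.PsiY aN π hπ.inv) := ⟨hπ.orbit⟩
  let B : Over S := Over.mk (pullback.fst π.left π.left ≫ X.hom)
  let s : T ⟶ B := Over.homMk (pullback.lift x.left x'.left (congrArg CommaMorphism.left h)) (by
    show _ ≫ pullback.fst π.left π.left ≫ X.hom = _
    rw [pullback.lift_fst_assoc, Over.w x])
  obtain ⟨t, ht⟩ := exists_lift_point (A := N ⊗ X) (B := B) e (GIT.PsiY aN π hπ.inv) (by
    show _ ≫ pullback.fst π.left π.left ≫ X.hom = _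
    rw [GIT.PsiY, pullback.lift_fst_assoc, Over.w aN.act]) s
  have h1 : t ≫ aN.act = x := Over.OverMorphism.ext (by
    have := congrArg (· ≫ pullback.fst π.left π.left) ht
    simp only [Category.assoc, GIT.PsiY, pullback.lift_fst] at this
    exact this.trans (pullback.lift_fst _ _ _))
  have h2 : t ≫ snd N X = x' := Over.OverMorphism.ext (by
    have := congrArg (· ≫ pullback.snd π.left π.left) ht
    simp only [Category.assoc, GIT.PsiY, pullback.lift_snd] at this
    exact this.trans (pullback.lift_snd _ _ _))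
  refine ⟨t ≫ fst N X, ?_⟩
  have : lift (t ≫ fst N X) x' = t := by rw [← h2, lift_comp_fst_snd]
  rw [this, h1]

variable {a : AlgGrp.Action H X} {aN : AlgGrp.Action N X} {aQ : AlgGrp.Action Q Y} {π : X ⟶ Y}
  {i : N ⟶ H} {q : H ⟶ Q}

theorem psi_whisker (hequiv : (q ⊗ₘ π) ≫ aQ.act = a.act ≫ π) {T : Over S} (f : T ⟶ X) :
    GIT.psi a f ≫ (π ▷ T) = (q ▷ T) ≫ GIT.psi aQ (f ≫ π) := by
  have e : (H ◁ f) ≫ (q ⊗ₘ π) = (q ▷ T) ≫ (Q ◁ (f ≫ π)) := by ext1 <;> simp
  ext1
  · simp only [GIT.psi, Category.assoc, whiskerRight_fst, lift_fst_assoc, lift_fst]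
    rw [← hequiv, reassoc_of% e]
  · simp [GIT.psi]

/-- The orbit of a geometric point is the preimage of the orbit of its image. -/
theorem range_psi_eq [Surjective q.left] (haN : aN.act = (i ▷ X) ≫ a.act)
    (hπ : GIT.IsGeomQuot aN π) (hequiv : (q ⊗ₘ π) ≫ aQ.act = a.act ≫ π) {T : Over S} (f : T ⟶ X) :
    Set.range (GIT.psi a f).left.base =
      (π ▷ T).left.base ⁻¹' Set.range (GIT.psi aQ (f ≫ π)).left.base := by
  have sq := psi_whisker hequiv f
  refine subset_antisymm ?_ ?_
  · rintro _ ⟨z, rfl⟩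
    exact ⟨(q ▷ T).left z, (congrArg (fun m : H ⊗ T ⟶ Y ⊗ T => m.left z) sq).symm⟩
  · rintro p ⟨s, hs⟩
    haveI : Surjective (q ▷ T).left :=
      MorphismProperty.of_isPullback (P := @Surjective) (GITQuot.isPullback_whiskerRight q T).flip
        ‹Surjective q.left›
    obtain ⟨r, rfl⟩ := (q ▷ T).left.surjective s
    have hpp : (π ▷ T).left p = (π ▷ T).left ((GIT.psi a f).left r) :=
      hs.symm.trans (congrArg (fun m : H ⊗ T ⟶ Y ⊗ T => m.left r) sq).symm
    obtain ⟨w, hw1, hw2⟩ := Scheme.Pullback.exists_preimage_pullback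
      (f := (π ▷ T).left) (g := (π ▷ T).left) p _ hpp
    let W₀ : Over S := Over.mk (pullback.fst (π ▷ T).left (π ▷ T).left ≫ (X ⊗ T).hom)
    let i₁ : W₀ ⟶ X ⊗ T := Over.homMk (pullback.fst (π ▷ T).left (π ▷ T).left) rfl
    let i₂ : W₀ ⟶ X ⊗ T := Over.homMk (pullback.snd (π ▷ T).left (π ▷ T).left) (by
      show _ = pullback.fst (π ▷ T).left (π ▷ T).left ≫ (X ⊗ T).hom
      rw [← Over.w (π ▷ T), ← Category.assoc, ← pullback.condition, Category.assoc])
    have hc : i₁ ≫ (π ▷ T) = i₂ ≫ (π ▷ T) := Over.OverMorphism.ext pullback.condition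
    have hx : (i₁ ≫ fst X T) ≫ π = (i₂ ≫ fst X T) ≫ π := by
      simpa using congrArg (· ≫ fst Y T) hc
    have ht : i₁ ≫ snd X T = i₂ ≫ snd X T := by
      simpa using congrArg (· ≫ snd Y T) hc
    let m : W₀.left ⟶ pullback π.left π.left :=
      pullback.lift (i₁ ≫ fst X T).left (i₂ ≫ fst X T).left (congrArg CommaMorphism.left hx)
    obtain ⟨z, hz⟩ := hπ.orbit (m w)
    obtain ⟨w', -, hw'⟩ := Scheme.Pullback.exists_preimage_pullback
      (f := GIT.PsiY aN π hπ.inv) (g := m) z w hz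
    let W : Over S := Over.mk (pullback.snd (GIT.PsiY aN π hπ.inv) m ≫ W₀.hom)
    let pr : W ⟶ W₀ := Over.homMk (pullback.snd (GIT.PsiY aN π hπ.inv) m) rfl
    have c1 : pullback.fst (GIT.PsiY aN π hπ.inv) m ≫ aN.act.left = pr.left ≫ (i₁ ≫ fst X T).left :=
      calc _ = (pullback.fst (GIT.PsiY aN π hπ.inv) m ≫ GIT.PsiY aN π hπ.inv) ≫ pullback.fst _ _ := by
            rw [Category.assoc, GIT.PsiY, pullback.lift_fst]
        _ = _ := by rw [pullback.condition, Category.assoc, pullback.lift_fst]; rfl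
    have c2 : pullback.fst (GIT.PsiY aN π hπ.inv) m ≫ (snd N X).left = pr.left ≫ (i₂ ≫ fst X T).left :=
      calc _ = (pullback.fst (GIT.PsiY aN π hπ.inv) m ≫ GIT.PsiY aN π hπ.inv) ≫ pullback.snd _ _ := by
            rw [Category.assoc, GIT.PsiY, pullback.lift_snd]
        _ = _ := by rw [pullback.condition, Category.assoc, pullback.lift_snd]; rfl
    let gx : W ⟶ N ⊗ X := Over.homMk (pullback.fst (GIT.PsiY aN π hπ.inv) m) (by
      show _ = pullback.snd (GIT.PsiY aN π hπ.inv) m ≫ W₀.hom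
      rw [← Over.w aN.act, ← Category.assoc, c1, Category.assoc, Over.w (i₁ ≫ fst X T)]
      rfl)
    have d1 : gx ≫ aN.act = pr ≫ i₁ ≫ fst X T := Over.OverMorphism.ext c1
    have d2 : gx ≫ snd N X = pr ≫ i₂ ≫ fst X T := Over.OverMorphism.ext c2
    have hgx : gx = lift (gx ≫ fst N X) (pr ≫ i₂ ≫ fst X T) := by rw [← d2, lift_comp_fst_snd]
    let B : N ⊗ (X ⊗ T) ⟶ X ⊗ T := lift ((N ◁ fst X T) ≫ aN.act) (snd N (X ⊗ T) ≫ snd X T)
    let l : W ⟶ N ⊗ (X ⊗ T) := lift (gx ≫ fst N X) (pr ≫ i₂)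
    have hl1 : l ≫ snd N (X ⊗ T) = pr ≫ i₂ := lift_snd _ _
    have hl2 : l ≫ B = pr ≫ i₁ := by
      ext1
      · have : l ≫ (N ◁ fst X T) = gx := by
          rw [hgx]; ext1 <;> simp [l]
        simp only [B, Category.assoc, lift_fst]
        rw [← Category.assoc, this, d1]
      · simp only [B, Category.assoc, lift_snd]
        rw [reassoc_of% hl1, ht]
    set v := l.left w' with hv
    have hv1 : (snd N (X ⊗ T)).left v = (GIT.psi a f).left r :=
      ((congrArg (fun n : W ⟶ X ⊗ T => n.left w') hl1).trans (congrArg i₂.left hw')).trans hw2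
    have hv2 : B.left v = p :=
      ((congrArg (fun n : W ⟶ X ⊗ T => n.left w') hl2).trans (congrArg i₁.left hw')).trans hw1
    have eP := GITQuot.isPullback_whiskerLeft (GIT.psi a f) N
    obtain ⟨z', hz1, -⟩ := Scheme.Pullback.exists_preimage_pullback
      (f := (snd N (X ⊗ T)).left) (g := (GIT.psi a f).left) v r hv1
    have hz2 : (N ◁ GIT.psi a f).left (eP.isoPullback.inv z') = v := by
      rw [← Scheme.Hom.comp_apply, eP.isoPullback_inv_fst]
      exact hz1
    let n' : N ⊗ (H ⊗ T) ⟶ N := fst N (H ⊗ T)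
    let h' : N ⊗ (H ⊗ T) ⟶ H := snd N (H ⊗ T) ≫ fst H T
    let t' : N ⊗ (H ⊗ T) ⟶ T := snd N (H ⊗ T) ≫ snd H T
    have hcomp : (N ◁ GIT.psi a f) ≫ B = lift ((n' ≫ i) * h') t' ≫ GIT.psi a f := by
      rw [comp_psi, lift_fst, lift_snd_assoc, AlgGrpBasic19.act_mul, ← act_of_comp a aN i haN]
      ext1
      · have : (N ◁ GIT.psi a f) ≫ (N ◁ fst X T) = lift n' (lift h' (t' ≫ f) ≫ a.act) := by
          ext1
          · simp [n']
          · have := comp_psi a f (snd N (H ⊗ T))
            simp [h', t', reassoc_of% this]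
        simp only [B, Category.assoc, lift_fst]
        rw [← Category.assoc, this]
      · simp [B, t', GIT.psi]
    refine ⟨(lift ((n' ≫ i) * h') t').left (eP.isoPullback.inv z'), ?_⟩
    have := congrArg (fun n : N ⊗ (H ⊗ T) ⟶ X ⊗ T => n.left (eP.isoPullback.inv z')) hcomp
    simp only [Over.comp_left, Scheme.Hom.comp_apply, hz2] at this
    exact this.symm.trans hv2

/-- Closedness of the action passes through a geometric quotient by a normal subgroup. -/
theorem isClosedAction_iff [Surjective q.left] [LocallyOfFiniteType X.hom]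
    (haN : aN.act = (i ▷ X) ≫ a.act)
    (hπ : GIT.IsGeomQuot aN π) (hequiv : (q ⊗ₘ π) ≫ aQ.act = a.act ≫ π) :
    GIT.IsClosedAction aQ ↔ GIT.IsClosedAction a := by
  have qT : ∀ T : Over S, IsQuotientMap (π ▷ T).left.base := fun T =>
    MorphismProperty.universally_le (topologically @IsQuotientMap) _
      (MorphismProperty.of_isPullback (P := (topologically @IsQuotientMap).universally)
        (GITQuot.isPullback_whiskerRight π T).flip hπ.subm)
  constructor
  · intro hQ Ω _ _ T e f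
    rw [range_psi_eq haN hπ hequiv f]
    exact (hQ Ω T e (f ≫ π)).preimage (π ▷ T).left.continuous
  · intro hH Ω _ _ T e y
    haveI := locallyOfFiniteType_left π
    haveI : Surjective π.left := ⟨hπ.surj⟩
    obtain ⟨f, hf⟩ := exists_lift_point e π.left (Over.w π) y
    have hy : f ≫ π = y := Over.OverMorphism.ext hf
    subst hy
    rw [← (qT T).isClosed_preimage, ← range_psi_eq haN hπ hequiv f]
    exact hH Ω T e f

end Groth.Agent.NRGIT21
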